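import Mathlib
import Cfsg.Agent.LieClassical.OrthFourMinus
import Cfsg.Agent.LieClassical.OrthTrans
import Cfsg.Agent.LieClassical.OrthFinite
import Cfsg.Agent.ClassicalGeometry.PSL2Basic
import Cfsg.Agent.H93.RC.Defs

/-!
# Four-dimensional quadratic spaces of minus type (helper170; S3510, box M4)

`Minus4 Q` : `Q` nondegenerate, `dim V = 4`, there are singular vectors, no totally singular planes.

* `Minus4.commutator_eq_E` : `⁅O Q, O Q⁆ = E Q`;
* `Minus4.E_perfect` : `⁅E Q, E Q⁆ = E Q`;
* `Minus4.equiv_psl` : `E Q / Z(E Q) ≃* PSL(2, K)`, `|K| = |F| ^ 2`;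
* `Minus4.scal` : a semisimilitude centralising `E Q` is a scalar;
* `box_M4` : the three statements together; `Minus4.simple`, `Minus4.cl`, `Minus4.not_exc`.
-/

set_option autoImplicit false

namespace Cfsg.Agent.H170.RC

open QuadraticMap Module
open scoped MatrixGroups
open Cfsg.Agent.LieClassical.OrthCore Cfsg.Agent.LieClassical.OrthTrans

/-! ### Generation of `SL₂` -/

section SL

/-- upper elementary matrices -/
def up {R : Type*} [CommRing R] (t : R) : SL(2, R) := ⟨!![1, t; 0, 1], by simp⟩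

/-- lower elementary matrices -/
def lo {R : Type*} [CommRing R] (t : R) : SL(2, R) := ⟨!![1, 0; t, 1], by simp⟩

variable {E : Type*} [Field E]

theorem sl_gen (H : Subgroup SL(2, E)) (hu : ∀ t, up t ∈ H) (hl : ∀ t, lo t ∈ H) : H = ⊤ := by
  have key : ∀ s : SL(2, E), s.1 1 0 ≠ 0 → s ∈ H := by
    intro s hs
    have hd : s.1 0 0 * s.1 1 1 - s.1 0 1 * s.1 1 0 = 1 := by
      have := s.2
      rwa [Matrix.det_fin_two] at this
    have : s = up ((s.1 0 0 - 1) / s.1 1 0) * lo (s.1 1 0) * up ((s.1 1 1 - 1) / s.1 1 0) := by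
      apply Subtype.ext
      show s.1 = !![1, (s.1 0 0 - 1) / s.1 1 0; 0, 1] * !![1, 0; s.1 1 0, 1] * !![1, (s.1 1 1 - 1) / s.1 1 0; 0, 1]
      ext i j
      fin_cases i <;> fin_cases j
      · simp [Matrix.mul_apply, Fin.sum_univ_two]
        field_simp
        ring
      · simp [Matrix.mul_apply, Fin.sum_univ_two]
        field_simp
        linear_combination -hd
      · simp [Matrix.mul_apply, Fin.sum_univ_two]
      · simp [Matrix.mul_apply, Fin.sum_univ_two]
        field_simp
        ring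
    rw [this]
    exact H.mul_mem (H.mul_mem (hu _) (hl _)) (hu _)
  rw [eq_top_iff]
  intro s _
  by_cases hs : s.1 1 0 = 0
  · have hd : s.1 0 0 * s.1 1 1 = 1 := by
      have := s.2
      rw [Matrix.det_fin_two, hs, mul_zero, sub_zero] at this
      exact this
    have h1 : s * lo 1 ∈ H := by
      apply key
      have : (s * lo 1).1 1 0 = s.1 1 0 * 1 + s.1 1 1 * 1 := by
        show (s.1 * (!![1, 0; 1, 1] : Matrix (Fin 2) (Fin 2) E)) 1 0 = _
        simp [Matrix.mul_apply, Fin.sum_univ_two]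
      rw [this, hs, zero_mul, zero_add, mul_one]
      exact right_ne_zero_of_mul_eq_one hd
    have h2 := H.mul_mem h1 (H.inv_mem (hl 1))
    rwa [mul_inv_cancel_right] at h2
  · exact key s hs

end SL

variable {F V : Type*} [Field F] [AddCommGroup V] [Module F V] {Q : QuadraticForm F V}

/-- a four-dimensional quadratic space of minus type -/
structure Minus4 (Q : QuadraticForm F V) : Prop where
  nondeg : Nondeg Q
  dim : finrank F V = 4
  sing : ∃ x : V, x ≠ 0 ∧ Q x = 0
  plane : ∀ u w : V, Q u = 0 → Q w = 0 → polar Q u w = 0 → u ≠ 0 → ∃ a : F, w = a • u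

theorem Minus4.exists_hyp (h : Minus4 Q) : ∃ x y, Hyp Q x y := by
  obtain ⟨x, hx0, hx⟩ := h.sing
  obtain ⟨y, hy⟩ := Cfsg.Agent.LieClassical.OrthTrans.exists_hyp h.nondeg hx hx0
  exact ⟨x, y, hy⟩

theorem Minus4.fin (h : Minus4 Q) : FiniteDimensional F V :=
  FiniteDimensional.of_finrank_pos (by rw [h.dim]; norm_num)

/-- a basis of the orthogonal complement of a hyperbolic pair -/
theorem Minus4.exists_rs (h : Minus4 Q) {x y : V} (hxy : Hyp Q x y) : ∃ r s : V, polar Q x r = 0 ∧ polar Q y r = 0 ∧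
    polar Q x s = 0 ∧ polar Q y s = 0 ∧ ∀ a b : F, a • r + b • s = 0 → a = 0 ∧ b = 0 := by
  have hfin := h.fin
  have hyx : polar Q y x = 1 := hxy.pair'
  let π : V →ₗ[F] F × F := (polarBilin Q x).prod (polarBilin Q y)
  have hπ : ∀ v, π v = (polar Q x v, polar Q y v) := fun v => rfl
  have hsurj : LinearMap.range π = ⊤ := by
    rw [LinearMap.range_eq_top]
    rintro ⟨a, b⟩
    refine ⟨a • y + b • x, ?_⟩
    rw [hπ, polar_add_right, polar_add_right, polar_smul_right, polar_smul_right, polar_smul_right, polar_smul_right,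
      hxy.pair, hyx, hxy.polar_left, hxy.polar_right]
    simp
  have hker : finrank F (LinearMap.ker π) = 2 := by
    have h1 := LinearMap.finrank_range_add_finrank_ker π
    rw [hsurj, finrank_top, finrank_prod, finrank_self, h.dim] at h1
    omega
  let b := finBasisOfFinrankEq F (LinearMap.ker π) hker
  have hb : ∀ i, polar Q x (b i : V) = 0 ∧ polar Q y (b i : V) = 0 := by
    intro i
    have h1 := (b i).2
    rw [LinearMap.mem_ker, hπ] at h1
    exact Prod.mk.inj h1
  refine ⟨b 0, b 1, (hb 0).1, (hb 0).2, (hb 1).1, (hb 1).2, ?_⟩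
  intro a c hac
  have h1 : a • b 0 + c • b 1 = 0 := Subtype.ext hac
  have h2 := Fintype.linearIndependent_iff.1 b.linearIndependent ![a, c] (by
    rw [Fin.sum_univ_two]
    exact h1)
  exact ⟨h2 0, h2 1⟩

/-- a vector orthogonal to a hyperbolic pair is anisotropic -/
theorem Minus4.aniso (h : Minus4 Q) {x y z : V} (hxy : Hyp Q x y) (hx : polar Q x z = 0) (hy : polar Q y z = 0)
    (hz : Q z = 0) : z = 0 := by
  obtain ⟨a, ha⟩ := h.plane x z hxy.left hz hx hxy.left_ne
  have h1 : polar Q y z = a := by rw [ha, polar_smul_right, hxy.pair', smul_eq_mul, mul_one]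
  rw [hy] at h1
  rw [ha, ← h1, zero_smul]

open Cfsg.Agent.LieClassical in
/-- **The model.** -/
theorem Minus4.exists_model (h : Minus4 Q) : ∃ (c d k : F) (e : OrthFourMinus.V F c d ≃ₗ[F] V), k ≠ 0 ∧
    (∀ r : F, r ^ 2 ≠ c + d * r) ∧ ∀ v, Q (e v) = k * OrthFourMinus.Q c d v := by
  have hfin := h.fin
  obtain ⟨x, y, hxy⟩ := h.exists_hyp
  obtain ⟨r, s, hxr, hyr, hxs, hys, hrs⟩ := h.exists_rs hxy
  have hyx : polar Q y x = 1 := hxy.pair'
  obtain ⟨k, hk⟩ : ∃ k, k = Q r := ⟨_, rfl⟩
  have hr0 : r ≠ 0 := by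
    intro h0
    have := (hrs 1 0 (by rw [h0]; simp)).1
    exact one_ne_zero this
  have hk0 : k ≠ 0 := by
    intro h0
    exact hr0 (h.aniso hxy hxr hyr (by rw [← hk, h0]))
  obtain ⟨d, hd⟩ : ∃ d, polar Q r s = k * d := ⟨polar Q r s / k, by field_simp⟩
  obtain ⟨c, hc⟩ : ∃ c, Q s = - (k * c) := ⟨-Q s / k, by field_simp⟩
  let e : OrthFourMinus.V F c d →ₗ[F] V :=
    { toFun := fun v => v.1 • x + (k * v.2.1) • y + (v.2.2.re • r + v.2.2.im • s)
      map_add' := fun v w => by
        simp only [Prod.fst_add, Prod.snd_add, QuadraticAlgebra.re_add, QuadraticAlgebra.im_add]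
        module
      map_smul' := fun a v => by
        simp only [Prod.smul_fst, Prod.smul_snd, QuadraticAlgebra.re_smul, QuadraticAlgebra.im_smul, smul_eq_mul,
          RingHom.id_apply]
        module }
  have he : ∀ v, e v = v.1 • x + (k * v.2.1) • y + (v.2.2.re • r + v.2.2.im • s) := fun v => rfl
  have hinj : Function.Injective e := by
    rw [← LinearMap.ker_eq_bot, LinearMap.ker_eq_bot']
    intro v hv
    rw [he] at hv
    have h1 : v.1 = 0 := by
      have := congrArg (polar Q y) hv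
      simp only [polar_add_right, polar_smul_right, hyx, hxy.polar_right, hyr, hys, smul_eq_mul, mul_one, mul_zero,
        add_zero, polar_zero_right] at this
      exact this
    have h2 : v.2.1 = 0 := by
      have := congrArg (polar Q x) hv
      simp only [polar_add_right, polar_smul_right, hxy.pair, hxy.polar_left, hxr, hxs, smul_eq_mul, mul_one, mul_zero,
        add_zero, zero_add, polar_zero_right] at this
      exact (mul_eq_zero.1 this).resolve_left hk0
    rw [h1, h2, mul_zero, zero_smul, zero_smul, zero_add, zero_add] at hv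
    obtain ⟨h3, h4⟩ := hrs _ _ hv
    refine Prod.ext h1 (Prod.ext h2 ?_)
    exact QuadraticAlgebra.ext h3 h4
  have hfr : finrank F (OrthFourMinus.V F c d) = finrank F V := by
    rw [h.dim, finrank_prod, finrank_prod, finrank_self, QuadraticAlgebra.finrank_eq_two]
  have hfd : FiniteDimensional F (OrthFourMinus.V F c d) :=
    FiniteDimensional.of_finrank_pos (by rw [hfr, h.dim]; norm_num)
  have hQe : ∀ v, Q (e v) = k * OrthFourMinus.Q c d v := by
    intro v
    rw [he, Q_add, Q_add, Q_add]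
    simp only [QuadraticMap.map_smul, polar_add_left, polar_add_right, polar_smul_left, polar_smul_right, hxy.left,
      hxy.right, hxy.pair, hxr, hxs, hyr, hys, smul_eq_mul]
    rw [hd, hc, ← hk, OrthFourMinus.Q, QuadraticAlgebra.norm_def]
    ring
  refine ⟨c, d, k, LinearMap.linearEquivOfInjective e hinj hfr, hk0, ?_, hQe⟩
  intro t ht
  have h1 : Q (t • r + (-1 : F) • s) = 0 := by
    rw [Q_add, QuadraticMap.map_smul, QuadraticMap.map_smul, polar_smul_left, polar_smul_right, ← hk, hd, hc]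
    simp only [smul_eq_mul]
    linear_combination k * ht
  have h2 := h.aniso hxy (z := t • r + (-1 : F) • s) (by
    rw [polar_add_right, polar_smul_right, polar_smul_right, hxr, hxs]; simp) (by
    rw [polar_add_right, polar_smul_right, polar_smul_right, hyr, hys]; simp) h1
  have h3 := (hrs _ _ h2).2
  exact one_ne_zero (neg_eq_zero.1 h3)

/-! ### Transport -/

section transport

variable {W : Type*} [AddCommGroup W] [Module F W]

/-- transport of linear automorphisms -/
def th (e : W ≃ₗ[F] V) : (W ≃ₗ[F] W) ≃* (V ≃ₗ[F] V) where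
  toFun g := (e.symm.trans g).trans e
  invFun g := (e.trans g).trans e.symm
  left_inv g := by ext v; simp
  right_inv g := by ext v; simp
  map_mul' g g' := by
    ext v
    show e (g (g' (e.symm v))) = e (g (e.symm (e (g' (e.symm v)))))
    rw [LinearEquiv.symm_apply_apply]

theorem th_apply (e : W ≃ₗ[F] V) (g : W ≃ₗ[F] W) (v : V) : th e g v = e (g (e.symm v)) := rfl

end transport

/-- isometries are transitive on singular vectors -/
theorem Minus4.exists_O (h : Minus4 Q) {u u' : V} (hu : Q u = 0) (hu' : Q u' = 0) (hu0 : u ≠ 0) (hu0' : u' ≠ 0) :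
    ∃ g ∈ O Q, g u = u' := by
  have key : ∀ {u u' : V}, Q u = 0 → Q u' = 0 → polar Q u u' ≠ 0 → ∃ g ∈ O Q, g u = u' := by
    intro u u' hu hu' hne
    have h1 : Q (u - u') ≠ 0 := by
      rw [sub_eq_add_neg, Q_add, QuadraticMap.map_neg, hu, hu', polar_neg_right]
      simpa using hne
    exact ⟨refl Q (u - u') h1, refl_mem_O h1, refl_sub_apply (by rw [hu, hu']) h1⟩
  by_cases hne : polar Q u u' = 0
  · obtain ⟨a, ha⟩ := h.plane u u' hu hu' hne hu0
    obtain ⟨v, hv⟩ := Cfsg.Agent.LieClassical.OrthTrans.exists_hyp h.nondeg hu hu0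
    have ha0 : a ≠ 0 := by
      rintro rfl
      exact hu0' (by rw [ha, zero_smul])
    obtain ⟨g, hg, hgu⟩ := key hu hv.right (by rw [hv.pair]; exact one_ne_zero)
    obtain ⟨g', hg', hgu'⟩ := key hv.right hu' (by
      rw [ha, polar_smul_right, hv.pair', smul_eq_mul, mul_one]; exact ha0)
    exact ⟨g' * g, (O Q).mul_mem hg' hg, by rw [LinearEquiv.mul_apply, hgu, hgu']⟩
  · exact key hu hu' hne

open Cfsg.Agent.LieClassical in
/-- the homomorphism `SL(2, E) → GL(V)` -/
noncomputable def Ph {c d : F} (e : OrthFourMinus.V F c d ≃ₗ[F] V) :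
    SL(2, OrthFourMinus.E F c d) →* (V ≃ₗ[F] V) :=
  (th e).toMonoidHom.comp ((OrthFourCommon.isom (OrthFourMinus.Q c d)).subtype.comp OrthFourMinus.phi)

section main

open Cfsg.Agent.LieClassical

variable {c d k : F} {e : OrthFourMinus.V F c d ≃ₗ[F] V}

theorem Ph_apply (s : SL(2, OrthFourMinus.E F c d)) (v : OrthFourMinus.V F c d) :
    Ph e s (e v) = e (OrthFourMinus.actFun s.1 v) := by
  show e ((OrthFourMinus.phi s).1 (e.symm (e v))) = _
  rw [LinearEquiv.symm_apply_apply, OrthFourMinus.phi_apply]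

variable (hk : k ≠ 0) (he : ∀ v, Q (e v) = k * OrthFourMinus.Q c d v)

include he in
theorem map_isom (hk : k ≠ 0) : (OrthFourCommon.isom (OrthFourMinus.Q c d)).map (th e).toMonoidHom = O Q := by
  ext g
  constructor
  · rintro ⟨g, hg, rfl⟩ v
    obtain ⟨v, rfl⟩ := e.surjective v
    show Q (e (g (e.symm (e v)))) = _
    rw [LinearEquiv.symm_apply_apply, he, he, OrthFourCommon.mem_isom.1 hg]
  · intro hg
    refine ⟨(th e).symm g, ?_, (th e).apply_symm_apply g⟩
    intro v
    have h1 : e ((th e).symm g v) = g (e v) := by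
      show e (e.symm (g (e v))) = _
      rw [LinearEquiv.apply_symm_apply]
    apply mul_left_cancel₀ hk
    rw [← he, ← he, h1, mem_O.1 hg]

include he in
/-- `Φ(SL₂(E)) = ⁅O Q, O Q⁆` -/
theorem range_Ph_eq [Finite F] (hk : k ≠ 0) (hab : ∀ r : F, r ^ 2 ≠ c + d * r) : (Ph e).range = ⁅O Q, O Q⁆ := by
  have : Fact (∀ r : F, r ^ 2 ≠ c + d * r) := ⟨hab⟩
  have h1 : (OrthFourMinus.phi (F := F) (c := c) (d := d)).range = commutator (OrthFourCommon.isom (OrthFourMinus.Q c d)) :=
    le_antisymm OrthFourMinus.le_commutator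
      (OrthFourMinus.commutator_le' (OrthFourMinus.exists_eq OrthFourMinus.norm_surjective))
  rw [Ph, MonoidHom.range_comp, MonoidHom.range_comp, h1, commutator_def, Subgroup.map_commutator,
    ← MonoidHom.range_eq_map, Subgroup.range_subtype, Subgroup.map_commutator, map_isom he hk]

include he in
theorem polar_e (v w : OrthFourMinus.V F c d) : polar Q (e v) (e w) =
    k * (OrthFourMinus.Q c d (v + w) - OrthFourMinus.Q c d v - OrthFourMinus.Q c d w) := by
  rw [polar, ← map_add, he, he, he]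
  ring

theorem norm_add' (z w : OrthFourMinus.E F c d) : QuadraticAlgebra.norm (z + w) =
    QuadraticAlgebra.norm z + QuadraticAlgebra.norm w + QuadraticAlgebra.trace (star w * z) := by
  rw [QuadraticAlgebra.norm_def, QuadraticAlgebra.norm_def, QuadraticAlgebra.norm_def]
  simp [QuadraticAlgebra.trace]
  ring

include he in
theorem polar_e10 (v : OrthFourMinus.V F c d) : polar Q (e (1, 0, 0)) (e v) = k * v.2.1 := by
  rw [polar_e he, OrthFourMinus.Q, OrthFourMinus.Q, OrthFourMinus.Q]
  simp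
  left
  ring

include he in
theorem polar_e01 (v : OrthFourMinus.V F c d) : polar Q (e (0, 1, 0)) (e v) = k * v.1 := by
  rw [polar_e he, OrthFourMinus.Q, OrthFourMinus.Q, OrthFourMinus.Q]
  simp
  left
  ring

include he in
theorem polar_ez (z : OrthFourMinus.E F c d) (v : OrthFourMinus.V F c d) : polar Q (e (0, 0, z)) (e v) =
    k * QuadraticAlgebra.trace (star z * v.2.2) := by
  rw [polar_e he, OrthFourMinus.Q, OrthFourMinus.Q, OrthFourMinus.Q]
  simp only [Prod.fst_add, Prod.snd_add, zero_add, zero_mul]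
  rw [add_comm z, norm_add']
  ring

include he in
theorem Q_e10 : Q (e (1, 0, 0)) = 0 := by
  rw [he, OrthFourMinus.Q]
  simp

include he in
theorem Q_e01 : Q (e (0, 1, 0)) = 0 := by
  rw [he, OrthFourMinus.Q]
  simp

include he in
theorem Q_ez (z : OrthFourMinus.E F c d) : Q (e (0, 0, z)) = k * QuadraticAlgebra.norm z := by
  rw [he, OrthFourMinus.Q]
  simp

theorem act_up (t : OrthFourMinus.E F c d) (v : OrthFourMinus.V F c d) : OrthFourMinus.actFun (up t).1 v =
    (v.1 - QuadraticAlgebra.norm t * v.2.1 + QuadraticAlgebra.trace (star t * v.2.2), v.2.1,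
      v.2.2 - t * algebraMap F _ v.2.1) := by
  have h00 : (up t).1 0 0 = 1 := rfl
  have h01 : (up t).1 0 1 = t := rfl
  have h10 : (up t).1 1 0 = 0 := rfl
  have h11 : (up t).1 1 1 = 1 := rfl
  unfold OrthFourMinus.actFun
  rw [h00, h01, h10, h11]
  simp only [star_one, star_zero, mul_zero, zero_mul, one_mul, mul_one, add_zero, sub_zero, map_one, map_zero,
    QuadraticAlgebra.norm_zero]
  refine Prod.ext rfl (Prod.ext rfl ?_)
  show 0 - t * algebraMap F _ v.2.1 + v.2.2 = v.2.2 - t * algebraMap F _ v.2.1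
  ring

theorem act_lo (t : OrthFourMinus.E F c d) (v : OrthFourMinus.V F c d) : OrthFourMinus.actFun (lo t).1 v =
    (v.1, v.2.1 - QuadraticAlgebra.norm t * v.1 - QuadraticAlgebra.trace (t * v.2.2),
      v.2.2 + star t * algebraMap F _ v.1) := by
  have h00 : (lo t).1 0 0 = 1 := rfl
  have h01 : (lo t).1 0 1 = 0 := rfl
  have h10 : (lo t).1 1 0 = t := rfl
  have h11 : (lo t).1 1 1 = 1 := rfl
  unfold OrthFourMinus.actFun
  rw [h00, h01, h10, h11]
  simp only [star_one, star_zero, mul_zero, zero_mul, one_mul, mul_one, add_zero, sub_zero, map_one, map_zero,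
    QuadraticAlgebra.norm_zero]
  refine Prod.ext rfl (Prod.ext rfl ?_)
  show star t * algebraMap F _ v.1 + v.2.2 = v.2.2 + star t * algebraMap F _ v.1
  ring

include he in
theorem Ph_up (hk : k ≠ 0) (t : OrthFourMinus.E F c d) (hu : Q (e (1, 0, 0)) = 0)
    (hw : polar Q (e (1, 0, 0)) (k⁻¹ • e (0, 0, -t)) = 0) :
    Ph e (up t) = siegel Q (e (1, 0, 0)) (k⁻¹ • e (0, 0, -t)) hu hw := by
  ext v
  obtain ⟨v, rfl⟩ := e.surjective v
  have h1 : OrthFourMinus.actFun (up t).1 v = v + v.2.1 • ((0, 0, -t) : OrthFourMinus.V F c d) -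
      (QuadraticAlgebra.trace (star (-t) * v.2.2)) • ((1, 0, 0) : OrthFourMinus.V F c d) -
      (QuadraticAlgebra.norm (-t) * v.2.1) • ((1, 0, 0) : OrthFourMinus.V F c d) := by
    rw [act_up]
    refine Prod.ext ?_ (Prod.ext ?_ ?_)
    · simp
      ring
    · simp
    · simp [Algebra.smul_def]
      ring
  rw [Ph_apply, h1, siegel_apply, polar_e10 he, polar_smul_left, polar_ez he, QuadraticMap.map_smul, Q_ez he]
  simp only [map_sub, map_add, map_smul, smul_smul, smul_eq_mul]
  have e1 : k * v.2.1 * k⁻¹ = v.2.1 := by field_simp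
  have e2 : k⁻¹ * (k * QuadraticAlgebra.trace (star (-t) * v.2.2)) = QuadraticAlgebra.trace (star (-t) * v.2.2) := by
    field_simp
  have e3 : k⁻¹ * k⁻¹ * (k * QuadraticAlgebra.norm (-t)) * (k * v.2.1) = QuadraticAlgebra.norm (-t) * v.2.1 := by
    field_simp
  rw [e1, e2, e3]

include he in
theorem Ph_lo (hk : k ≠ 0) (t : OrthFourMinus.E F c d) (hu : Q (e (0, 1, 0)) = 0)
    (hw : polar Q (e (0, 1, 0)) (k⁻¹ • e (0, 0, star t)) = 0) :
    Ph e (lo t) = siegel Q (e (0, 1, 0)) (k⁻¹ • e (0, 0, star t)) hu hw := by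
  ext v
  obtain ⟨v, rfl⟩ := e.surjective v
  have h1 : OrthFourMinus.actFun (lo t).1 v = v + v.1 • ((0, 0, star t) : OrthFourMinus.V F c d) -
      (QuadraticAlgebra.trace (star (star t) * v.2.2)) • ((0, 1, 0) : OrthFourMinus.V F c d) -
      (QuadraticAlgebra.norm (star t) * v.1) • ((0, 1, 0) : OrthFourMinus.V F c d) := by
    rw [act_lo]
    refine Prod.ext ?_ (Prod.ext ?_ ?_)
    · simp
    · simp
      ring
    · simp [Algebra.smul_def]
      ring
  rw [Ph_apply, h1, siegel_apply, polar_e01 he, polar_smul_left, polar_ez he, QuadraticMap.map_smul, Q_ez he]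
  simp only [map_sub, map_add, map_smul, smul_smul, smul_eq_mul]
  have e1 : k * v.1 * k⁻¹ = v.1 := by field_simp
  have e2 : k⁻¹ * (k * QuadraticAlgebra.trace (star (star t) * v.2.2)) =
      QuadraticAlgebra.trace (star (star t) * v.2.2) := by
    field_simp
  have e3 : k⁻¹ * k⁻¹ * (k * QuadraticAlgebra.norm (star t)) * (k * v.1) = QuadraticAlgebra.norm (star t) * v.1 := by
    field_simp
  rw [e1, e2, e3]

include he in
theorem range_le (hk : k ≠ 0) (hab : ∀ r : F, r ^ 2 ≠ c + d * r) : (Ph e).range ≤ E Q := by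
  have : Fact (∀ r : F, r ^ 2 ≠ c + d * r) := ⟨hab⟩
  have h1 : (E Q).comap (Ph e) = ⊤ := by
    apply sl_gen
    · intro t
      rw [Subgroup.mem_comap, Ph_up he hk t (Q_e10 he) (by
        rw [polar_smul_right, polar_e10 he]; simp)]
      exact siegel_mem_E _ _
    · intro t
      rw [Subgroup.mem_comap, Ph_lo he hk t (Q_e01 he) (by
        rw [polar_smul_right, polar_e01 he]; simp)]
      exact siegel_mem_E _ _
  rintro _ ⟨s, rfl⟩
  have h2 : s ∈ (E Q).comap (Ph e) := by rw [h1]; trivial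
  exact h2

theorem siegel_smul_add {u w : V} {a : F} (hu : Q u = 0) (hw : polar Q u w = 0) (hw' : polar Q u (a • u + w) = 0) :
    siegel Q u (a • u + w) hu hw' = siegel Q u w hu hw := by
  ext v
  have h1 : Q (a • u + w) = Q w := by
    rw [Q_add, QuadraticMap.map_smul, hu, polar_smul_left, hw]
    simp
  rw [siegel_apply, siegel_apply, h1, polar_add_left, polar_smul_left, smul_eq_mul]
  module

theorem siegel_cg {u u' w w' : V} (hu : Q u = 0) (hw : polar Q u w = 0) (hu' : Q u' = 0) (hw' : polar Q u' w' = 0)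
    (e1 : u = u') (e2 : w = w') : siegel Q u w hu hw = siegel Q u' w' hu' hw' := by
  subst e1 e2; rfl

include he in
theorem siegel_mem_range (hk : k ≠ 0) {w : V} (hw : polar Q (e (1, 0, 0)) w = 0) :
    siegel Q (e (1, 0, 0)) w (Q_e10 he) hw ∈ (Ph e).range := by
  obtain ⟨⟨a, b, z⟩, rfl⟩ := e.surjective w
  have hb : b = 0 := by
    have h1 := hw
    rw [polar_e10 he] at h1
    exact (mul_eq_zero.1 h1).resolve_left hk
  have h6 : polar Q (e (1, 0, 0)) (k⁻¹ • e (0, 0, -(-(k • z)))) = 0 := by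
    rw [polar_smul_right, polar_e10 he]; simp
  have h2 : e (a, b, z) = a • e (1, 0, 0) + k⁻¹ • e (0, 0, -(-(k • z))) := by
    rw [← LinearEquiv.map_smul, ← LinearEquiv.map_smul, ← LinearEquiv.map_add]
    congr 1
    refine Prod.ext ?_ (Prod.ext ?_ ?_)
    · simp
    · simp [hb]
    · simp [smul_smul, inv_mul_cancel₀ hk]
  have h5 : polar Q (e (1, 0, 0)) (a • e (1, 0, 0) + k⁻¹ • e (0, 0, -(-(k • z)))) = 0 := by
    rw [← h2]; exact hw
  refine ⟨up (-(k • z)), ?_⟩
  rw [Ph_up he hk _ (Q_e10 he) h6, ← siegel_smul_add (a := a) (Q_e10 he) h6 h5]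
  exact siegel_cg _ _ _ _ rfl h2.symm

open scoped commutatorElement in
theorem conj_mem_commutator {G : Type*} [Group G] {H : Subgroup G} {g s : G} (hg : g ∈ H) (hs : s ∈ ⁅H, H⁆) :
    g⁻¹ * s * g ∈ ⁅H, H⁆ := by
  have h1 : (⁅H, H⁆ : Subgroup G) ≤ H := by
    rw [Subgroup.commutator_le]
    intro a ha b hb
    exact H.mul_mem (H.mul_mem (H.mul_mem ha hb) (H.inv_mem ha)) (H.inv_mem hb)
  have h2 : ⁅g⁻¹, s⁆ ∈ ⁅H, H⁆ := Subgroup.commutator_mem_commutator (H.inv_mem hg) (h1 hs)
  have h3 := (⁅H, H⁆ : Subgroup G).mul_mem h2 hs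
  have h4 : ⁅g⁻¹, s⁆ * s = g⁻¹ * s * g := by rw [commutatorElement_def]; group
  rwa [h4] at h3

include he in
theorem E_le_range [Finite F] (h : Minus4 Q) (hk : k ≠ 0) (hab : ∀ r : F, r ^ 2 ≠ c + d * r) :
    E Q ≤ (Ph e).range := by
  have hr := range_Ph_eq he hk hab
  have h0 : e (1, 0, 0) ≠ 0 := by
    intro h0
    have h1 := e.map_eq_zero_iff.1 h0
    exact one_ne_zero (congrArg Prod.fst h1)
  rw [E, Subgroup.closure_le]
  rintro _ ⟨u, w, hu, hw, rfl⟩
  by_cases hu0 : u = 0
  · have : siegel Q u w hu hw = 1 := by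
      ext v
      rw [siegel_apply, hu0, polar_zero_left]
      simp
    rw [this]
    exact Subgroup.one_mem _
  obtain ⟨g, hg, hgu⟩ := h.exists_O hu (Q_e10 he) hu0 h0
  have hw' : polar Q (e (1, 0, 0)) (g w) = 0 := by rw [← hgu, polar_map hg, hw]
  have h3 := siegel_mem_range he hk hw'
  have hgu0 : Q (g u) = 0 := by rw [hgu]; exact Q_e10 he
  have hgw0 : polar Q (g u) (g w) = 0 := by rw [hgu]; exact hw'
  have h9 := siegel_conj hg hu hw hgu0 hgw0
  rw [siegel_cg hgu0 hgw0 (Q_e10 he) hw' hgu rfl] at h9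
  rw [hr, ← h9] at h3
  show siegel Q u w hu hw ∈ (Ph e).range
  rw [hr]
  have h4 := conj_mem_commutator hg h3
  have h5 : g⁻¹ * (g * siegel Q u w hu hw * g⁻¹) * g = siegel Q u w hu hw := by group
  rwa [h5] at h4

end main

/-! ### Results -/

variable [Finite F]

/-- `E Q` is the image of `SL₂` -/
theorem Minus4.commutator_eq_E (h : Minus4 Q) : ⁅O Q, O Q⁆ = E Q := by
  obtain ⟨c, d, k, e, hk, hab, he⟩ := h.exists_model
  have h1 := range_Ph_eq he hk hab
  exact h1 ▸ le_antisymm (range_le he hk hab) (E_le_range he h hk hab)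

/-- `E Q` is perfect -/
theorem Minus4.E_perfect (h : Minus4 Q) : ⁅E Q, E Q⁆ = E Q := by
  obtain ⟨c, d, k, e, hk, hab, he⟩ := h.exists_model
  have : Fact (∀ r : F, r ^ 2 ≠ c + d * r) := ⟨hab⟩
  have h1 : (Ph e).range = E Q := le_antisymm (range_le he hk hab) (E_le_range he h hk hab)
  rw [← h1, MonoidHom.range_eq_map, ← Subgroup.map_commutator, ← commutator_def,
    Cfsg.Agent.LieClassical.OrthFourMinus.commutator_SL]

theorem Minus4.commutator_E (h : Minus4 Q) : commutator ↥(E Q) = ⊤ := by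
  apply Subgroup.map_injective (E Q).subtype_injective
  rw [Subgroup.map_subtype_commutator, h.E_perfect, ← MonoidHom.range_eq_map, Subgroup.range_subtype]

open Cfsg.Agent.LieClassical in
/-- `E Q / Z(E Q) ≃* PSL(2, K)`, `|K| = |F| ^ 2` -/
theorem Minus4.equiv_psl (h : Minus4 Q) (K : Type*) [Field K] [Finite K] (hK : Nat.card K = Nat.card F ^ 2) :
    Nonempty ((↥(E Q) ⧸ Subgroup.center ↥(E Q)) ≃* PSL(2, K)) := by
  obtain ⟨c, d, k, e, hk, hab, he⟩ := h.exists_model
  have : Fact (∀ r : F, r ^ 2 ≠ c + d * r) := ⟨hab⟩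
  have := Fintype.ofFinite F
  have := Fintype.ofFinite K
  have h1 : (Ph e).range = E Q := le_antisymm (range_le he hk hab) (E_le_range he h hk hab)
  let _ : Fintype (OrthFourMinus.E F c d) := Fintype.ofEquiv _ (QuadraticAlgebra.equivProd c d).symm
  have hcard : Fintype.card (OrthFourMinus.E F c d) = Fintype.card K := by
    rw [← Nat.card_eq_fintype_card (α := K), hK, Fintype.card_congr (QuadraticAlgebra.equivProd c d),
      Fintype.card_prod, Nat.card_eq_fintype_card, pow_two]
  let f : OrthFourMinus.E F c d ≃+* K := FiniteField.ringEquivOfCardEq hcard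
  let φ : SL(2, OrthFourMinus.E F c d) →* ↥(E Q) := (Ph e).codRestrict (E Q) (fun s => by rw [← h1]; exact ⟨s, rfl⟩)
  have hφ : Function.Surjective φ := by
    rintro ⟨x, hx⟩
    have hx' := hx
    rw [← h1] at hx'
    obtain ⟨s, rfl⟩ := hx'
    exact ⟨s, rfl⟩
  have hφ1 : ∀ s, φ s = 1 ↔ OrthFourMinus.phi s = 1 := by
    intro s
    rw [← Subtype.coe_inj]
    show Ph e s = 1 ↔ _
    show th e (OrthFourMinus.phi s).1 = 1 ↔ _
    rw [map_eq_one_iff _ (th e).injective]
    exact ⟨fun h => Subtype.ext h, fun h => congrArg Subtype.val h⟩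
  let ψ : SL(2, OrthFourMinus.E F c d) →* (↥(E Q) ⧸ Subgroup.center ↥(E Q)) := (QuotientGroup.mk' _).comp φ
  let π : SL(2, OrthFourMinus.E F c d) →* PSL(2, K) :=
    (QuotientGroup.mk' (Subgroup.center SL(2, K))).comp (OrthFourMinus.slEquiv f).toMonoidHom
  have hψ : Function.Surjective ψ := (QuotientGroup.mk'_surjective _).comp hφ
  have hπ : Function.Surjective π := (QuotientGroup.mk'_surjective _).comp (OrthFourMinus.slEquiv f).surjective
  have hker : ψ.ker = π.ker := by
    ext s
    have h2 : s ∈ π.ker ↔ s ∈ Subgroup.center SL(2, OrthFourMinus.E F c d) := by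
      rw [MonoidHom.mem_ker, ← OrthFourMinus.mem_center_slEquiv f]
      exact QuotientGroup.eq_one_iff _
    rw [h2, OrthFourMinus.mem_center_iff', MonoidHom.mem_ker]
    show QuotientGroup.mk' _ (φ s) = 1 ↔ _
    rw [QuotientGroup.mk'_apply, QuotientGroup.eq_one_iff, Subgroup.mem_center_iff]
    constructor
    · intro h3 t
      rw [← hφ1, map_commutatorElement, commutatorElement_eq_one_iff_mul_comm]
      exact (h3 (φ t)).symm
    · intro h3 x
      obtain ⟨t, rfl⟩ := hφ x
      have h4 := h3 t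
      rw [← hφ1, map_commutatorElement, commutatorElement_eq_one_iff_mul_comm] at h4
      exact h4.symm
  exact ⟨(QuotientGroup.quotientKerEquivOfSurjective ψ hψ).symm.trans
    ((QuotientGroup.quotientMulEquivOfEq hker).trans (QuotientGroup.quotientKerEquivOfSurjective π hπ))⟩

/-! ### The centraliser -/

section cent

open Cfsg.Agent.ClassicalGeometry.OrthSemi Cfsg.Agent.ClassicalGeometry.OrthAut1 Cfsg.Agent.H93.RC
  Cfsg.Agent.H106.RC

omit [Finite F]

/-- a vector fixed by the Siegel elements of `u` is a multiple of `u` -/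
theorem eq_smul_of_fix {u y v r : V} (h : Nondeg Q) (hxy : Hyp Q u y) (hur : polar Q u r = 0) (hyr : polar Q y r = 0)
    (hr0 : r ≠ 0) (hv : ∀ w (hw : polar Q u w = 0), siegel Q u w hxy.left hw v = v) : v = polar Q y v • u := by
  have h1 : polar Q u v = 0 := by
    have h2 := hv r hur
    rw [siegel_apply] at h2
    have h3 : polar Q u v • r - (polar Q r v + Q r * polar Q u v) • u = 0 := by
      rw [← sub_eq_zero] at h2
      rw [← h2]
      module
    by_contra hne
    have h4 : r = ((polar Q u v)⁻¹ * (polar Q r v + Q r * polar Q u v)) • u := by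
      rw [mul_smul, ← sub_eq_zero.1 h3, smul_smul, inv_mul_cancel₀ hne, one_smul]
    have h5 : polar Q y r = (polar Q u v)⁻¹ * (polar Q r v + Q r * polar Q u v) := by
      nth_rw 1 [h4]
      rw [polar_smul_right, hxy.pair', smul_eq_mul, mul_one]
    rw [hyr] at h5
    exact hr0 (by rw [h4, ← h5, zero_smul])
  have h6 : ∀ w, polar Q u w = 0 → polar Q w v = 0 := by
    intro w hw
    have h2 := hv w hw
    rw [siegel_apply, h1, mul_zero, zero_smul, zero_smul, sub_zero, add_zero] at h2
    have h3 : polar Q w v • u = 0 := by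
      rw [← sub_eq_zero] at h2
      have : polar Q w v • u = -(v - polar Q w v • u - v) := by abel
      rw [this, h2, neg_zero]
    exact (smul_eq_zero.1 h3).resolve_right hxy.left_ne
  rw [← sub_eq_zero]
  apply h
  intro z
  have h7 : polar Q u (z - polar Q u z • y) = 0 := by
    rw [polar_sub_right, polar_smul_right, hxy.pair, smul_eq_mul, mul_one, sub_self]
  have h8 := h6 _ h7
  rw [polar_comm, polar_sub_right, polar_smul_right, smul_eq_mul] at h8
  rw [polar_sub_left, polar_smul_left, smul_eq_mul, polar_comm _ y v]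
  linear_combination h8

theorem Minus4.scal (h : Minus4 Q) (M : Gam Q) (hM : conjE Q M = 1) : IsScal M := by
  obtain ⟨x, y, hxy⟩ := h.exists_hyp
  obtain ⟨r, s, hxr, hyr, hxs, hys, hrs⟩ := h.exists_rs hxy
  have hr0 : r ≠ 0 := by
    intro h0
    have := (hrs 1 0 (by rw [h0]; simp)).1
    exact one_ne_zero this
  have hcomm : ∀ t ∈ E Q, ∀ v, M.1 (t v) = t (M.1 v) := by
    intro t ht v
    have h1 : conjE Q M ⟨t, ht⟩ = ⟨t, ht⟩ := by rw [hM]; rfl
    have h2 : conjLin M t = t := congrArg Subtype.val h1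
    rw [← conjLin_apply' M t v, h2]
  obtain ⟨σ, c, hσ⟩ := M.2
  have hadd := hσ.add
  have hsmul := hσ.smul
  have hfixx : ∀ w (hw : polar Q x w = 0), siegel Q x w hxy.left hw (M.1 x) = M.1 x := by
    intro w hw
    rw [← hcomm _ (siegel_mem_E _ _), siegel_apply, hxy.polar_left, polar_comm _ w x, hw]
    simp
  have hfixy : ∀ w (hw : polar Q y w = 0), siegel Q y w hxy.right hw (M.1 y) = M.1 y := by
    intro w hw
    rw [← hcomm _ (siegel_mem_E _ _), siegel_apply, hxy.polar_right, polar_comm _ w y, hw]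
    simp
  obtain ⟨a, ha⟩ : ∃ a, M.1 x = a • x := ⟨_, eq_smul_of_fix h.nondeg hxy hxr hyr hr0 hfixx⟩
  obtain ⟨b, hb⟩ : ∃ b, M.1 y = b • y := ⟨_, eq_smul_of_fix h.nondeg hxy.symm hyr hxr hr0 hfixy⟩
  have hM0 : M.1 0 = 0 := by
    have := hadd 0 0
    rw [add_zero] at this
    simpa using this.symm
  have hneg : ∀ v, M.1 (-v) = -M.1 v := by
    intro v
    rw [eq_neg_iff_add_eq_zero, ← hadd, neg_add_cancel, hM0]
  have ha0 : a ≠ 0 := by
    rintro rfl
    rw [zero_smul, ← hM0] at ha
    exact hxy.left_ne (M.1.injective ha)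
  have hw1 : ∀ w, polar Q x w = 0 → polar Q y w = 0 → M.1 w = b • w + (σ (Q w) * a - b * Q w) • x := by
    intro w hx hy
    have h1 := hcomm _ (siegel_mem_E hxy.left hx) y
    rw [siegel_apply, hb, map_smul, siegel_apply, hxy.pair, polar_comm _ w y, hy, one_smul, zero_smul, sub_zero,
      mul_one, sub_eq_add_neg, hadd, hadd, hneg, hsmul, hb, ha] at h1
    have h2 : M.1 w = b • (y + w + -(Q w • x)) - b • y + σ (Q w) • a • x := by
      rw [← h1]; abel
    rw [h2]
    module
  have hw2 : ∀ w, polar Q x w = 0 → polar Q y w = 0 → M.1 w = a • w + (σ (Q w) * b - a * Q w) • y := by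
    intro w hx hy
    have h1 := hcomm _ (siegel_mem_E hxy.right hy) x
    rw [siegel_apply, ha, map_smul, siegel_apply, hxy.pair', polar_comm _ w x, hx, one_smul, zero_smul, sub_zero,
      mul_one, sub_eq_add_neg, hadd, hadd, hneg, hsmul, hb, ha] at h1
    have h2 : M.1 w = a • (x + w + -(Q w • y)) - a • x + σ (Q w) • b • y := by
      rw [← h1]; abel
    rw [h2]
    module
  have hw3 : ∀ w, polar Q x w = 0 → polar Q y w = 0 → M.1 w = b • w := by
    intro w hx hy
    have h1 := hw1 w hx hy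
    have h2 := hw2 w hx hy
    have h3 : polar Q y (M.1 w) = σ (Q w) * a - b * Q w := by
      rw [h1, polar_add_right, polar_smul_right, polar_smul_right, hy, hxy.pair']
      simp
    have h4 : polar Q y (M.1 w) = 0 := by
      rw [h2, polar_add_right, polar_smul_right, polar_smul_right, hy, hxy.polar_right]
      simp
    rw [h1, ← h3, h4, zero_smul, add_zero]
  have hab : a = b := by
    have h1 := hw3 r hxr hyr
    have h2 := hw2 r hxr hyr
    have h3 : polar Q x (M.1 r) = 0 := by
      rw [h1, polar_smul_right, hxr, smul_zero]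
    have h4 : polar Q x (M.1 r) = σ (Q r) * b - a * Q r := by
      rw [h2, polar_add_right, polar_smul_right, polar_smul_right, hxr, hxy.pair]
      simp
    rw [← h4, h3, zero_smul, add_zero, h1] at h2
    have h5 : (b - a) • r = 0 := by rw [sub_smul, h2, sub_self]
    exact (sub_eq_zero.1 ((smul_eq_zero.1 h5).resolve_right hr0)).symm
  have hσ1 : ∀ l : F, σ l = l := by
    intro l
    have h1 := hw3 (l • r) (by rw [polar_smul_right, hxr, smul_zero]) (by rw [polar_smul_right, hyr, smul_zero])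
    rw [hsmul, hw3 r hxr hyr, smul_smul, smul_smul, ← sub_eq_zero, ← sub_smul, smul_eq_zero] at h1
    have h2 := h1.resolve_right hr0
    rw [← hab] at h2
    have h3 : (σ l - l) * a = 0 := by linear_combination h2
    exact sub_eq_zero.1 ((mul_eq_zero.1 h3).resolve_right ha0)
  refine ⟨a, ha0, fun v => ?_⟩
  obtain ⟨w, hw⟩ : ∃ w, w = Cfsg.Agent.LieClassical.OrthTrans.proj Q x y v := ⟨_, rfl⟩
  have h1 : v = polar Q y v • x + polar Q x v • y + w := by
    rw [hw, Cfsg.Agent.LieClassical.OrthTrans.proj]; abel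
  have h2 := hw3 w (by rw [hw]; exact polar_proj_left hxy v) (by rw [hw]; exact polar_proj_right hxy v)
  generalize polar Q y v = α at h1
  generalize polar Q x v = β at h1
  rw [← hab] at h2
  rw [h1, hadd, hadd, hsmul, hsmul, ha, hb, hσ1, hσ1, h2, ← hab]
  module

/-- minus type in terms of totally singular subspaces -/
theorem Minus4.of_le_one [Finite F] (hQ : Nondeg Q) (h4 : finrank F V = 4)
    (hm : ∀ U : Submodule F V, (∀ v ∈ U, Q v = 0) → finrank F U ≤ 1) : Minus4 Q := by
  have hfin : FiniteDimensional F V := FiniteDimensional.of_finrank_pos (by rw [h4]; norm_num)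
  refine ⟨hQ, h4, ?_, ?_⟩
  · obtain ⟨w, -, hw0, hw⟩ := Cfsg.Agent.LieClassical.OrthFinite.exists_sing_mem (Q := Q) (⊤ : Submodule F V)
      (by rw [finrank_top, h4]; norm_num)
    exact ⟨w, hw0, hw⟩
  · intro u w hu hw huw hu0
    have h1 := hm (Submodule.span F {u, w}) (by
      intro v hv
      obtain ⟨a, b, rfl⟩ := Submodule.mem_span_pair.1 hv
      rw [Q_add, QuadraticMap.map_smul, QuadraticMap.map_smul, hu, hw, polar_smul_left, polar_smul_right, huw]
      simp)
    have h2 : Submodule.span F {u} ≤ Submodule.span F {u, w} := Submodule.span_mono (by simp)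
    have h3 := Submodule.eq_of_le_of_finrank_le h2 (by rw [finrank_span_singleton hu0]; exact h1)
    have h5 : w ∈ Submodule.span F {u} := by
      rw [h3]
      exact Submodule.subset_span (by simp)
    obtain ⟨a, ha⟩ := Submodule.mem_span_singleton.1 h5
    exact ⟨a, ha.symm⟩

/-- the projective group -/
theorem Minus4.exists_K [Finite F] (h : Minus4 Q) :
    ∃ (K : Type) (_ : Field K) (_ : Fintype K), Nat.card K = Nat.card F ^ 2 ∧
      Nonempty (P Q ≃* Matrix.ProjectiveSpecialLinearGroup (Fin 2) K) := by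
  obtain ⟨p, hpF⟩ := CharP.exists F
  have hp : Fact p.Prime := ⟨CharP.char_is_prime F p⟩
  have := Fintype.ofFinite F
  have := Fintype.ofFinite (FiniteField.Extension F p 2)
  refine ⟨FiniteField.Extension F p 2, inferInstance, inferInstance, ?_, ?_⟩
  · rw [FiniteField.natCard_extension]
  · exact h.equiv_psl (FiniteField.Extension F p 2) (by rw [FiniteField.natCard_extension])

/-- BOX M4 (four-dimensional forms of minus type). -/
theorem box_M4 [Finite F] (hQ : Nondeg Q) (h4 : Module.finrank F V = 4)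
    (hm : ∀ U : Submodule F V, (∀ v ∈ U, Q v = 0) → Module.finrank F U ≤ 1) :
    commutator ↥(E Q) = ⊤ ∧ (∀ M : Gam Q, conjE Q M = 1 → IsScal M) ∧
      ∃ (K : Type) (_ : Field K) (_ : Fintype K), Nat.card K = Nat.card F ^ 2 ∧
        Nonempty (P Q ≃* Matrix.ProjectiveSpecialLinearGroup (Fin 2) K) :=
  let h := Minus4.of_le_one hQ h4 hm
  ⟨h.commutator_E, h.scal, h.exists_K⟩

theorem Minus4.isPSL [Finite F] (h : Minus4 Q) : Cfsg.IsPSL (P Q) := by
  obtain ⟨K, _, _, hK, e⟩ := h.exists_K
  refine ⟨K, inferInstance, inferInstance, 2, le_rfl, fun _ => ?_, e⟩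
  rw [← Nat.card_eq_fintype_card, hK]
  have := Finite.one_lt_card (α := F)
  nlinarith

theorem Minus4.cl [Finite F] (h : Minus4 Q) : Cl (P Q) := Or.inl h.isPSL

theorem Minus4.simple [Finite F] (h : Minus4 Q) : IsSimpleGroup (P Q) := by
  obtain ⟨K, _, _, hK, ⟨e⟩⟩ := h.exists_K
  have h1 : 4 ≤ Nat.card K := by
    rw [hK]
    have := Finite.one_lt_card (α := F)
    nlinarith
  exact isSimple_cgr0 e.symm (Matrix.ProjectiveSpecialLinearGroup.rank_two_simple h1)

theorem Minus4.not_comm [Finite F] (h : Minus4 Q) : ¬ IsMulCommutative (P Q) := by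
  intro hc
  have h1 := h.simple
  have h2 : commutator (P Q) = ⊤ := by
    have h3 := h.commutator_E
    have h4 : (commutator ↥(E Q)).map (QuotientGroup.mk' (Subgroup.center ↥(E Q))) = commutator (P Q) := by
      rw [commutator_def, Subgroup.map_commutator, Subgroup.map_top_of_surjective _ (QuotientGroup.mk'_surjective _),
        commutator_def]
    rw [← h4, h3, Subgroup.map_top_of_surjective _ (QuotientGroup.mk'_surjective _)]
  have h5 : commutator (P Q) = ⊥ := by
    rw [commutator_def, Subgroup.commutator_eq_bot_iff_le_centralizer]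
    intro a _
    rw [Subgroup.mem_centralizer_iff]
    intro b _
    exact hc.is_comm.comm b a
  rw [h5] at h2
  exact bot_ne_top h2

theorem Minus4.card_mul [Finite F] (h : Minus4 Q) :
    Nat.card (P Q) * Nat.gcd 2 (Nat.card F ^ 2 - 1) = Nat.card F ^ 2 * (Nat.card F ^ 4 - 1) := by
  obtain ⟨K, _, _, hK, ⟨e⟩⟩ := h.exists_K
  have h1 := Cfsg.Agent.ClassicalGeometry.PSL2Basic.card_PSL2_gcd (F := K)
  rw [← Nat.card_eq_fintype_card, hK, ← Nat.card_congr e.toEquiv, ← pow_mul] at h1
  exact h1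

theorem Minus4.not_exc [Finite F] (h : Minus4 Q) (h3 : 3 < Nat.card F) : ¬ Exc (P Q) := by
  have hcard := h.card_mul
  obtain ⟨q, hq⟩ : ∃ q, q = Nat.card F := ⟨_, rfl⟩
  rw [← hq] at hcard h3
  have h4 : Nat.card (P Q) = 60 ∨ Nat.card (P Q) = 360 ∨ Nat.card (P Q) = 20160 → False := by
    intro hc
    have hg : Nat.gcd 2 (q ^ 2 - 1) = 1 ∨ Nat.gcd 2 (q ^ 2 - 1) = 2 := by
      rcases (Nat.dvd_prime Nat.prime_two).1 (Nat.gcd_dvd_left 2 (q ^ 2 - 1)) with h | h
      · exact Or.inl h
      · exact Or.inr h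
    have hle : q ^ 2 * (q ^ 4 - 1) ≤ 40320 := by
      rw [← hcard]
      rcases hc with h | h | h <;> rcases hg with h' | h' <;> rw [h, h'] <;> norm_num
    have hq5 : q ≤ 5 := by
      by_contra hcon
      have h6 : 6 ≤ q := by omega
      have h7 : 6 ^ 2 ≤ q ^ 2 := Nat.pow_le_pow_left h6 2
      have h8 : 6 ^ 4 ≤ q ^ 4 := Nat.pow_le_pow_left h6 4
      have h9 : 6 ^ 2 * (6 ^ 4 - 1) ≤ q ^ 2 * (q ^ 4 - 1) := Nat.mul_le_mul h7 (Nat.sub_le_sub_right h8 1)
      have : 6 ^ 2 * (6 ^ 4 - 1) ≤ 40320 := h9.trans hle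
      norm_num at this
    have hq45 : q = 4 ∨ q = 5 := by omega
    rcases hq45 with rfl | rfl
    · norm_num at hcard
      omega
    · norm_num at hcard
      omega
  have hA : ∀ n, Nontrivial (Fin n) → Nonempty (P Q ≃* alternatingGroup (Fin n)) → 2 * Nat.card (P Q) = n.factorial := by
    rintro n hn ⟨e⟩
    rw [Nat.card_congr e.toEquiv, Nat.card_eq_fintype_card, two_mul_card_alternatingGroup, Fintype.card_perm,
      Fintype.card_fin]
  rintro (h5 | h5 | h5)
  · have := hA 5 inferInstance h5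
    norm_num [Nat.factorial] at this
    exact h4 (by omega)
  · have := hA 6 inferInstance h5
    norm_num [Nat.factorial] at this
    exact h4 (by omega)
  · have := hA 8 inferInstance h5
    norm_num [Nat.factorial] at this
    exact h4 (by omega)

/-- `RC` of the projective group from the induction hypothesis -/
theorem Minus4.rc {F V : Type} [Field F] [Finite F] [AddCommGroup V] [Module F V] {Q : QuadraticForm F V}
    (h : Minus4 Q) {m : ℕ} (hI : IH m) (hlt : Nat.card (P Q) < m) (h3 : 3 < Nat.card F) : RC (P Q) := by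
  have hfin := h.fin
  have : Finite V := Module.finite_of_finite F
  have : Finite (V ≃ₗ[F] V) := Finite.of_injective (fun g => (g : V → V)) DFunLike.coe_injective
  have : Finite ↥(E Q) := inferInstance
  have : Finite (P Q) := Finite.of_surjective _ (QuotientGroup.mk'_surjective (Subgroup.center ↥(E Q)))
  exact hI (P Q) h.simple h.not_comm h.cl (h.not_exc h3) hlt

end cent

end Cfsg.Agent.H170.RC
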